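import Groth.Agent.S17614
import Groth.Agent.BigEt.Exact
import Groth.Agent.SiteCoh.ExtAdj
import Groth.Agent.BigEt.General

/-! # Restriction from the big to the small Zariski site -/

set_option autoImplicit false
set_option linter.all false
set_option backward.isDefEq.respectTransparency false
set_option backward.defeqAttrib.useBackward true

noncomputable section

universe u

open CategoryTheory CategoryTheory.Limits CategoryTheory.Abelian AlgebraicGeometry Opposite

namespace Groth.Agent.BigZar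

local notation "zar" => Scheme.zariskiPrecoverage

variable (X : Scheme.{u}) [BigSite.ZarCont zar X]

instance flat_zarIncl : RepresentablyFlat (BigSite.zarIncl X) :=
  RepresentablyFlat.comp (EtZar.zarToEt X) (EtFppf.a X)

instance piZarPull_preservesFiniteLimits : PreservesFiniteLimits (BigSite.piZarPull zar X) := by
  haveI : PreservesFiniteLimits ((BigSite.zarIncl X).op.lan : (_ ⥤ (Over X)ᵒᵖ ⥤ AddCommGrpCat.{u + 1})) :=
    AnPts.lan_preservesFiniteLimits_of_flat_asSmall.{u + 1} (BigSite.zarIncl X)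
  exact Functor.sheafPullbackConstruction.preservesFiniteLimits _ _ _ _

theorem exists_open (U : X.Opens) (R : Sieve ((BigSite.zarIncl X).obj U))
    (hR : R ∈ QuotSh.J zar X _) (x : X) (hx : x ∈ U) :
    ∃ (V : X.Opens) (h : V ≤ U), x ∈ V ∧ R.arrows ((BigSite.zarIncl X).map (homOfLE h)) := by
  rw [GrothendieckTopology.mem_over_iff] at hR
  obtain ⟨S, hS, hle⟩ := (Precoverage.mem_toGrothendieck_iff_of_isStableUnderComposition
    (J := Scheme.zariskiPrecoverage)).1 hR
  have e : S = Presieve.ofArrows (fun k : (Σ Z : Scheme.{u}, {g : Z ⟶ U.toScheme // S g}) => k.1) (fun k => k.2.1) := by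
    funext Z
    ext g
    refine ⟨fun h => Presieve.ofArrows.mk (⟨Z, g, h⟩ : Σ Z : Scheme.{u}, {g : Z ⟶ U.toScheme // S g}), ?_⟩
    rintro ⟨k⟩; exact k.2.2
  have h := (Scheme.ofArrows_mem_precoverage_iff _).1 (e ▸ hS)
  obtain ⟨⟨W, g, hg⟩, w, hw⟩ := h.1 ⟨x, hx⟩
  haveI : IsOpenImmersion g := h.2 ⟨W, g, hg⟩
  let V : X.Opens := U.ι ''ᵁ g.opensRange
  have hVU : V ≤ U := fun y hy => by
    obtain ⟨z, -, rfl⟩ := hy
    exact z.2
  refine ⟨V, hVU, ⟨⟨x, hx⟩, ⟨w, hw⟩, rfl⟩, ?_⟩
  let k : V.toScheme ⟶ U.toScheme := ((BigSite.zarIncl X).map (homOfLE hVU)).left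
  have hk : k ≫ U.ι = V.ι := Over.w ((BigSite.zarIncl X).map (homOfLE hVU))
  have hr : Set.range k ⊆ Set.range g := by
    rintro _ ⟨v, rfl⟩
    obtain ⟨z, hz, hzv⟩ := v.2
    have : U.ι (k v) = U.ι z := by
      rw [← Scheme.Hom.comp_apply, hk]
      exact hzv.symm
    rw [U.ι.isOpenEmbedding.injective this]
    exact hz
  have hmem : (Sieve.overEquiv _ R).arrows k := by
    rw [← IsOpenImmersion.lift_fac g k hr]
    exact (Sieve.overEquiv _ R).downward_closed (hle _ _ hg) _
  rw [Sieve.overEquiv_iff] at hmem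
  let i : (BigSite.zarIncl X).obj V ⟶ Over.mk (k ≫ ((BigSite.zarIncl X).obj U).hom) :=
    Over.homMk (𝟙 V.toScheme) ((Category.id_comp _).trans hk)
  have : (BigSite.zarIncl X).map (homOfLE hVU) = i ≫ Over.homMk (V := (BigSite.zarIncl X).obj U) k rfl := Over.OverMorphism.ext (Category.id_comp _).symm
  rw [this]
  exact R.downward_closed hmem i

theorem resZar_epi {A B : BigSite.Ab zar X} (φ : A ⟶ B) [Epi φ] : Epi ((BigSite.resZar zar X).map φ) := by
  haveI hφ : Sheaf.IsLocallySurjective φ :=
    (Sheaf.isLocallySurjective_iff_epi' (A := AddCommGrpCat.{u + 1}) φ).2 ‹_›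
  haveI : Sheaf.IsLocallySurjective ((BigSite.resZar zar X).map φ) := ⟨fun {U} s => fun x hx => by
    obtain ⟨V, h, hxV, r, hr⟩ := exists_open X U _ (hφ.imageSieve_mem (U := (BigSite.zarIncl X).obj U) s) x hx
    exact ⟨V, homOfLE h, ⟨r, hr⟩, hxV⟩⟩
  exact S17614.epi_of_locSurj X _

theorem resZar_preservesFiniteColimits : PreservesFiniteColimits (BigSite.resZar zar X) := by
  haveI := (BigSite.piZarAdj zar X).rightAdjoint_preservesLimits
  haveI : PreservesFiniteLimits (BigSite.resZar zar X) := PreservesLimitsOfSize.preservesFiniteLimits.{0, 0} _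
  haveI : (BigSite.resZar zar X).PreservesEpimorphisms := ⟨fun φ _ => resZar_epi X φ⟩
  haveI : (BigSite.resZar zar X).PreservesHomology := Functor.preservesHomology_of_preservesEpis_and_kernels _
  exact Functor.preservesFiniteColimits_of_preservesHomology _

/-- the whole space is terminal -/
def topTerminal : IsTerminal (⊤ : X.Opens) :=
  IsTerminal.ofUniqueHom (fun U => homOfLE le_top) fun _ _ => Subsingleton.elim _ _

/-- the whole space in the big site -/
def topTerminalBig : IsTerminal ((BigSite.zarIncl X).obj (⊤ : X.Opens)) :=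
  (Over.mkIdTerminal (X := X)).ofIso (Over.isoMk X.topIso (by
    show X.topIso.hom ≫ 𝟙 X = (⊤ : X.Opens).ι
    rw [Category.comp_id, Scheme.topIso_hom])).symm

/-- the pullback of the constant sheaf -/
def constIso : constantSheaf (Opens.grothendieckTopology X) AddCommGrpCat.{u + 1} ⋙ BigSite.piZarPull zar X ≅
    constantSheaf (QuotSh.J zar X) AddCommGrpCat.{u + 1} :=
  Adjunction.leftAdjointUniq
    (((constantSheafAdj (Opens.grothendieckTopology X) AddCommGrpCat.{u + 1} (topTerminal X)).comp
      (BigSite.piZarAdj zar X)).ofNatIsoRight (Iso.refl _))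
    (constantSheafAdj (QuotSh.J zar X) AddCommGrpCat.{u + 1} (topTerminalBig X))

theorem nonempty_H_resZar (F : BigSite.Ab zar X) (n : ℕ) :
    Nonempty (EtZar.H ((BigSite.resZar zar X).obj F) n ≃+ BigSite.H zar X F n) := by
  haveI := resZar_preservesFiniteColimits X
  haveI : (BigSite.piZarPull zar X).Additive := (BigSite.piZarAdj zar X).left_adjoint_additive
  obtain ⟨e⟩ := SiteCoh.nonempty_extAdjEquiv (BigSite.piZarAdj zar X) ((constantSheaf (Opens.grothendieckTopology X) AddCommGrpCat.{u + 1}).obj (AddCommGrpCat.of (ULift.{u + 1} ℤ))) n F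
  exact ⟨e.symm.trans ((((extFunctor n).mapIso ((constIso X).app _).symm.op)).app F).addCommGroupIsoToAddEquiv⟩

end Groth.Agent.BigZar
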